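import Mathlib.RingTheory.Flat.Equalizer
import Mathlib.RingTheory.Flat.Tensor
import Mathlib.RingTheory.FiniteLength
import Mathlib.RingTheory.LocalRing.ResidueField.Basic
import Mathlib.LinearAlgebra.TensorProduct.RightExactness
import Mathlib.RingTheory.Artinian.Ring
import Mathlib.RingTheory.HopkinsLevitzki
import Mathlib.RingTheory.Ideal.Quotient.Index

/-!
Maps of flat modules over an Artinian local ring are controlled by their reduction to the residue field.
-/

set_option autoImplicit false
universe u v

namespace GrothLib.ArtinFlat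

open IsLocalRing TensorProduct

variable {A : Type u} [CommRing A] [IsLocalRing A] {P L : Type v} [AddCommGroup P] [Module A P]
  [AddCommGroup L] [Module A L]

theorem lTensor_injective_of_residueField [Module.Flat A L] (h : P →ₗ[A] L)
    (hk : Function.Injective (h.lTensor (ResidueField A)))
    (V : Type u) [AddCommGroup V] [Module A V] (hV : IsFiniteLength A V) :
    Function.Injective (h.lTensor V) := by
  induction hV with
  | @of_subsingleton M _ _ _ => exact Function.injective_of_subsingleton _
  | @of_simple_quotient M _ _ N hs _ ih =>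
    have hQ : Function.Injective (h.lTensor (M ⧸ N)) := by
      obtain ⟨I, hI, ⟨e⟩⟩ := isSimpleModule_iff_quot_maximal.1 hs
      obtain rfl := eq_maximalIdeal hI
      have heq : h.lTensor (M ⧸ N) =
          (e.symm.toLinearMap.rTensor L).comp ((h.lTensor (ResidueField A)).comp (e.toLinearMap.rTensor P)) := by
        refine TensorProduct.ext' fun x p => ?_
        exact congrArg (fun y => y ⊗ₜ[A] h p) (e.symm_apply_apply x).symm
      rw [heq]
      exact (LinearEquiv.rTensor L e.symm).injective.comp (hk.comp (LinearEquiv.rTensor P e).injective)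
    have hL : Function.Injective (N.subtype.rTensor L) :=
      Module.Flat.rTensor_preserves_injective_linearMap _ Subtype.val_injective
    rw [injective_iff_map_eq_zero]
    intro x hx
    have h1 : N.mkQ.rTensor P x = 0 := by
      refine hQ ?_
      rw [map_zero, ← LinearMap.comp_apply, LinearMap.lTensor_comp_rTensor, ← LinearMap.rTensor_comp_lTensor,
        LinearMap.comp_apply, hx, map_zero]
    obtain ⟨y, rfl⟩ := (rTensor_exact P (LinearMap.exact_subtype_mkQ N) N.mkQ_surjective x).1 h1
    have h2 : N.subtype.rTensor L (h.lTensor N y) = 0 := by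
      rw [← hx, ← LinearMap.comp_apply, ← LinearMap.comp_apply, LinearMap.rTensor_comp_lTensor,
        LinearMap.lTensor_comp_rTensor]
    rw [(injective_iff_map_eq_zero _).1 ih y ((injective_iff_map_eq_zero _).1 hL _ h2), map_zero]

variable [IsArtinianRing A]

theorem injective_of_residueField [Module.Flat A L] (h : P →ₗ[A] L)
    (hk : Function.Injective (h.lTensor (ResidueField A))) : Function.Injective h := by
  have h1 := lTensor_injective_of_residueField h hk A
    (isFiniteLength_iff_isNoetherian_isArtinian.2 ⟨inferInstance, inferInstance⟩)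
  intro x y hxy
  exact (TensorProduct.lid A P).symm.injective (h1 (by
    show h.lTensor A ((1 : A) ⊗ₜ x) = h.lTensor A ((1 : A) ⊗ₜ y)
    rw [LinearMap.lTensor_tmul, LinearMap.lTensor_tmul, hxy]))

theorem surjective_of_residueField (h : P →ₗ[A] L)
    (hk : Function.Surjective (h.lTensor (ResidueField A))) : Function.Surjective h := by
  have hex : Function.Exact h (LinearMap.range h).mkQ := LinearMap.exact_iff.2 (by simp)
  have hz : ∀ y : ResidueField A ⊗[A] (L ⧸ LinearMap.range h), y = 0 := by
    intro y
    obtain ⟨x, rfl⟩ := LinearMap.lTensor_surjective (ResidueField A) (LinearMap.range h).mkQ_surjective y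
    obtain ⟨z, rfl⟩ := hk x
    exact (lTensor_exact (ResidueField A) hex (LinearMap.range h).mkQ_surjective).apply_apply_eq_zero z
  have htop : maximalIdeal A • (⊤ : Submodule A (L ⧸ LinearMap.range h)) = ⊤ := by
    rw [← Submodule.Quotient.subsingleton_iff]
    exact (TensorProduct.quotTensorEquivQuotSMul (L ⧸ LinearMap.range h) (maximalIdeal A)).symm.toEquiv.subsingleton_congr.2
      ⟨fun a b => (hz a).trans (hz b).symm⟩
  obtain ⟨n, hn⟩ : IsNilpotent (maximalIdeal A) := by
    rw [← IsLocalRing.jacobson_eq_maximalIdeal (⊥ : Ideal A) bot_ne_top]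
    exact IsArtinianRing.isNilpotent_jacobson_bot
  have hpow : ∀ m : ℕ, (maximalIdeal A) ^ m • (⊤ : Submodule A (L ⧸ LinearMap.range h)) = ⊤ := by
    intro m
    induction m with
    | zero => simp
    | succ m ih => rw [pow_succ, Submodule.mul_smul, htop, ih]
  have h0 := hpow n
  rw [hn] at h0
  intro y
  have hy : (LinearMap.range h).mkQ y ∈ (⊥ : Submodule A (L ⧸ LinearMap.range h)) := by
    have hy' : (LinearMap.range h).mkQ y ∈ (⊤ : Submodule A (L ⧸ LinearMap.range h)) := trivial
    rw [← h0] at hy'
    simpa using hy'
  exact (Submodule.Quotient.mk_eq_zero _).1 ((Submodule.mem_bot A).1 hy)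

/-- In a short exact sequence with flat middle term over an Artinian local ring, injectivity modulo the
maximal ideal gives flatness of the quotient. -/
theorem flat_of_residueField {M N Q : Type v} [AddCommGroup M] [Module A M] [AddCommGroup N] [Module A N]
    [AddCommGroup Q] [Module A Q] [Module.Flat A N] (f : M →ₗ[A] N) (g : N →ₗ[A] Q)
    (hg : Function.Surjective g) (hfg : Function.Exact f g)
    (hk : Function.Injective (f.lTensor (ResidueField A))) : Module.Flat A Q := by
  rw [Module.Flat.iff_rTensor_injective']
  intro I
  have hI : Function.Injective (f.lTensor (A ⧸ I)) :=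
    lTensor_injective_of_residueField f hk (A ⧸ I)
      (isFiniteLength_iff_isNoetherian_isArtinian.2 ⟨inferInstance, inferInstance⟩)
  rw [injective_iff_map_eq_zero]
  intro x hx
  obtain ⟨y, rfl⟩ := LinearMap.lTensor_surjective I hg x
  have h1 : g.lTensor A (I.subtype.rTensor N y) = 0 := by
    rw [← hx, ← LinearMap.comp_apply, ← LinearMap.comp_apply, LinearMap.lTensor_comp_rTensor,
      LinearMap.rTensor_comp_lTensor]
  obtain ⟨z, hz⟩ := (lTensor_exact A hfg hg _).1 h1
  have h2 : (Submodule.mkQ I).rTensor M z = 0 := by
    refine hI ?_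
    rw [map_zero, ← LinearMap.comp_apply, LinearMap.lTensor_comp_rTensor, ← LinearMap.rTensor_comp_lTensor,
      LinearMap.comp_apply, hz]
    exact (rTensor_exact N (LinearMap.exact_subtype_mkQ I) (Submodule.mkQ_surjective I)).apply_apply_eq_zero y
  obtain ⟨w, rfl⟩ := (rTensor_exact M (LinearMap.exact_subtype_mkQ I) (Submodule.mkQ_surjective I) z).1 h2
  have h3 : I.subtype.rTensor N (f.lTensor I w) = I.subtype.rTensor N y := by
    rw [← hz, ← LinearMap.comp_apply, ← LinearMap.comp_apply, LinearMap.rTensor_comp_lTensor,
      LinearMap.lTensor_comp_rTensor]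
  have h4 := Module.Flat.rTensor_preserves_injective_linearMap I.subtype Subtype.val_injective h3
  rw [← h4]
  exact (lTensor_exact I hfg hg).apply_apply_eq_zero w

end GrothLib.ArtinFlat
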