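import Mathlib
import Groth.Agent.Lib.ArtinFlat.Basic

/-!
# Complexes of flat modules over an Artinian local ring, exact after reduction
-/

universe u v

noncomputable section

namespace GrothLib.ArtinFlat

open IsLocalRing

variable {A : Type u} [CommRing A] [IsLocalRing A] [IsArtinianRing A] {P Q R : Type v}
  [AddCommGroup P] [Module A P] [AddCommGroup Q] [Module A Q] [AddCommGroup R] [Module A R]

/-- A complex `P → Q → R` with `R` flat, exact after reduction, is exact with flat cokernels. -/
theorem exact_of_reduction [Module.Flat A R] (f : P →ₗ[A] Q) (g : Q →ₗ[A] R) (hfg : g ∘ₗ f = 0)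
    (hred : Function.Exact (f.lTensor (ResidueField A)) (g.lTensor (ResidueField A))) :
    Function.Exact f g ∧ Module.Flat A (R ⧸ LinearMap.range g) ∧
      Module.Flat A (Q ⧸ LinearMap.range f) := by
  let gq : (Q ⧸ LinearMap.range f) →ₗ[A] R :=
    (LinearMap.range f).liftQ g (LinearMap.range_le_ker_iff.2 hfg)
  have hg : gq ∘ₗ (LinearMap.range f).mkQ = g := Submodule.liftQ_mkQ _ _ _
  have hr : LinearMap.range gq = LinearMap.range g := Submodule.range_liftQ _ _ _
  have hk : Function.Injective (gq.lTensor (ResidueField A)) := by
    rw [injective_iff_map_eq_zero]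
    intro y hy
    obtain ⟨x, rfl⟩ := LinearMap.lTensor_surjective (ResidueField A) (LinearMap.range f).mkQ_surjective y
    rw [← LinearMap.comp_apply, ← LinearMap.lTensor_comp, hg] at hy
    obtain ⟨p, rfl⟩ := (hred x).1 hy
    rw [← LinearMap.comp_apply, ← LinearMap.lTensor_comp, LinearMap.range_mkQ_comp,
      LinearMap.lTensor_zero, LinearMap.zero_apply]
  have hinj : Function.Injective gq := injective_of_residueField gq hk
  have hflat : Module.Flat A (R ⧸ LinearMap.range g) :=
    flat_of_residueField gq (LinearMap.range g).mkQ (Submodule.mkQ_surjective _)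
      (hr ▸ LinearMap.exact_map_mkQ_range gq) hk
  refine ⟨fun q => ⟨fun h => ?_, fun ⟨p, hp⟩ => hp ▸ LinearMap.congr_fun hfg p⟩, hflat, ?_⟩
  · have : (LinearMap.range f).mkQ q = 0 :=
      hinj ((LinearMap.congr_fun hg q).trans (h.trans (map_zero gq).symm))
    exact (Submodule.Quotient.mk_eq_zero _).1 this
  · rw [Module.Flat.iff_rTensor_injective']
    intro I
    have hexact : Function.Exact gq (LinearMap.range g).mkQ := hr ▸ LinearMap.exact_map_mkQ_range gq
    have h1 : Function.Injective (gq.lTensor I) :=
      LinearMap.lTensor_injective_of_exact_of_flat _ (Submodule.mkQ_surjective _) gq hinj hexact I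
    have h2 : Function.Injective ((gq.lTensor A).comp (I.subtype.rTensor (Q ⧸ LinearMap.range f))) := by
      rw [LinearMap.lTensor_comp_rTensor, ← LinearMap.rTensor_comp_lTensor]
      exact (Module.Flat.rTensor_preserves_injective_linearMap _ Subtype.val_injective).comp h1
    exact Function.Injective.of_comp (f := gq.lTensor A) h2

end GrothLib.ArtinFlat
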